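import Mathlib.RingTheory.Unramified.Field
import Mathlib.RingTheory.TensorProduct.Maps
import Mathlib.RingTheory.Etale.Field
import Mathlib.Algebra.Algebra.Subalgebra.Rank
import Mathlib.LinearAlgebra.FiniteDimensional.Basic

/-! The largest finite unramified subalgebra of an algebra without nontrivial idempotents. -/

set_option autoImplicit false
set_option linter.style.haveILetI false

universe u

open scoped TensorProduct

namespace Groth.L06.Pi0

variable {k : Type u} [Field k] {A : Type u} [CommRing A] [Algebra k A]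

theorem isField_of_isArtinianRing_of_isReduced {B : Type u} [CommRing B] [IsArtinianRing B]
    [IsReduced B] [Nontrivial B] (h : ∀ e : B, IsIdempotentElem e → e = 0 ∨ e = 1) : IsField B := by
  refine ⟨⟨0, 1, zero_ne_one⟩, mul_comm, fun {x} hx => ?_⟩
  obtain ⟨n, y, hy⟩ := IsArtinian.exists_pow_succ_smul_dvd x (1 : B)
  simp only [smul_eq_mul, mul_one] at hy
  have key : ∀ j : ℕ, x ^ n = x ^ (n + j) * y ^ j := by
    intro j
    induction j with
    | zero => simp
    | succ j ih =>
      calc x ^ n = x ^ (n + j) * y ^ j := ih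
        _ = x ^ j * (x ^ n) * y ^ j := by ring
        _ = x ^ j * (x ^ (n + 1) * y) * y ^ j := by rw [hy]
        _ = x ^ (n + (j + 1)) * y ^ (j + 1) := by ring
  have he : IsIdempotentElem (x ^ n * y ^ n) := by
    show x ^ n * y ^ n * (x ^ n * y ^ n) = x ^ n * y ^ n
    conv_rhs => rw [key n]
    ring
  rcases h _ he with h0 | h1
  · exact absurd (IsReduced.eq_zero x ⟨n, by rw [key n, pow_add, mul_assoc, h0, mul_zero]⟩) hx
  · rcases Nat.eq_zero_or_pos n with rfl | hn
    · exact ⟨y, by simpa using hy⟩
    · refine ⟨x ^ (n - 1) * y ^ n, ?_⟩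
      rw [← mul_assoc, ← pow_succ', Nat.sub_add_cancel hn, h1]

theorem isField_of_unramified_finite [Nontrivial A]
    (h : ∀ e : A, IsIdempotentElem e → e = 0 ∨ e = 1) (B : Subalgebra k A)
    [Module.Finite k B] [Algebra.FormallyUnramified k B] : IsField B := by
  haveI : IsArtinianRing B := .of_finite k B
  haveI := Algebra.FormallyUnramified.isReduced_of_field k B
  refine isField_of_isArtinianRing_of_isReduced fun e he => ?_
  rcases h (e : A) (by show (e : A) * e = e; rw [← Subalgebra.coe_mul, he.eq]) with h0 | h1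
  · exact Or.inl (Subtype.ext h0)
  · exact Or.inr (Subtype.ext h1)

theorem exists_greatest [Nontrivial A] (h : ∀ e : A, IsIdempotentElem e → e = 0 ∨ e = 1)
    {F : Type u} [Field F] [Algebra k F] [Module.Finite k F] (φ : A →ₐ[k] F) :
    ∃ B : Subalgebra k A, IsField B ∧ Module.Finite k B ∧ Algebra.FormallyUnramified k B ∧
      ∀ (K : Type u) [CommRing K] [Algebra k K] [Module.Finite k K]
        [Algebra.FormallyUnramified k K] (ψ : K →ₐ[k] A), ψ.range ≤ B := by
  classical
  have bound : ∀ B : Subalgebra k A, Module.Finite k B → Algebra.FormallyUnramified k B →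
      Module.finrank k B ≤ Module.finrank k F := by
    intro B hf hu
    haveI := hf; haveI := hu
    letI := (isField_of_unramified_finite h B).toField
    exact LinearMap.finrank_le_finrank_of_injective (f := (φ.comp B.val).toLinearMap)
      (φ.comp B.val).toRingHom.injective
  let P : ℕ → Prop := fun n => ∃ B : Subalgebra k A, Module.Finite k B ∧
    Algebra.FormallyUnramified k B ∧ Module.finrank k B = n
  let e₀ : k ≃ₐ[k] (⊥ : Subalgebra k A) := (Algebra.botEquiv k A).symm
  have hP : ∃ n, n ≤ Module.finrank k F ∧ P n := by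
    haveI hf : Module.Finite k (⊥ : Subalgebra k A) := Module.Finite.equiv e₀.toLinearEquiv
    haveI hu : Algebra.FormallyUnramified k (⊥ : Subalgebra k A) :=
      Algebra.FormallyUnramified.of_equiv e₀
    exact ⟨_, bound _ hf hu, ⊥, hf, hu, rfl⟩
  obtain ⟨n₀, hn₀, hPn₀⟩ := hP
  obtain ⟨B, hf, hu, hB⟩ := Nat.findGreatest_spec (P := P) hn₀ hPn₀
  haveI := hf; haveI := hu
  refine ⟨B, isField_of_unramified_finite h B, hf, hu, fun K _ _ _ _ ψ => ?_⟩
  let pm : B ⊗[k] K →ₐ[k] A := Algebra.TensorProduct.productMap B.val ψ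
  haveI : Algebra.FormallyUnramified B (B ⊗[k] K) := inferInstance
  haveI : Algebra.FormallyUnramified k (B ⊗[k] K) := Algebra.FormallyUnramified.comp k B (B ⊗[k] K)
  haveI hf' : Module.Finite k pm.range :=
    Module.Finite.of_surjective pm.rangeRestrict.toLinearMap pm.rangeRestrict_surjective
  haveI hu' : Algebra.FormallyUnramified k pm.range :=
    Algebra.FormallyUnramified.of_surjective pm.rangeRestrict pm.rangeRestrict_surjective
  have hle : B ≤ pm.range := fun b hb => ⟨⟨b, hb⟩ ⊗ₜ 1, by simp [pm]⟩
  have hmax : Module.finrank k pm.range ≤ Module.finrank k B := by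
    rw [hB]
    exact Nat.le_findGreatest (bound _ hf' hu') ⟨_, hf', hu', rfl⟩
  haveI : FiniteDimensional k (Subalgebra.toSubmodule pm.range) := hf'
  have heq : Subalgebra.toSubmodule B = Subalgebra.toSubmodule pm.range :=
    Submodule.eq_of_le_of_finrank_le hle hmax
  rintro a ⟨x, rfl⟩
  have hx : ψ x ∈ pm.range := ⟨1 ⊗ₜ x, by simp [pm]⟩
  exact (heq.symm ▸ (show ψ x ∈ Subalgebra.toSubmodule pm.range from hx) :
    ψ x ∈ Subalgebra.toSubmodule B)

end Groth.L06.Pi0
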