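import Groth.Agent.L06.Pi0.Alg
import Mathlib.AlgebraicGeometry.Morphisms.Etale
import Mathlib.AlgebraicGeometry.Morphisms.Flat
import Mathlib.AlgebraicGeometry.Morphisms.QuasiFinite
import Mathlib.AlgebraicGeometry.GammaSpecAdjunction
import Mathlib.AlgebraicGeometry.Artinian
import Mathlib.RingTheory.Jacobson.Ring
import Mathlib.RingTheory.RingHom.Etale

/-! The universal etale scheme receiving a connected scheme over a field. -/

set_option autoImplicit false
set_option linter.style.haveILetI false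

universe u

open CategoryTheory CategoryTheory.Limits AlgebraicGeometry TopologicalSpace

namespace Groth.L06.Pi0

/-- the ring map giving a morphism to an affine scheme -/
noncomputable def gammaMap {U : Scheme.{u}} {R : CommRingCat.{u}} (h : U ⟶ Spec R) :
    R ⟶ Γ(U, ⊤) :=
  (Scheme.ΓSpecIso R).inv ≫ h.appTop

theorem toSpecΓ_gammaMap {U : Scheme.{u}} {R : CommRingCat.{u}} (h : U ⟶ Spec R) :
    U.toSpecΓ ≫ Spec.map (gammaMap h) = h := by
  rw [gammaMap, Spec.map_comp, ← Category.assoc, ← Scheme.toSpecΓ_naturality h, Category.assoc,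
    toSpecΓ_SpecMap_ΓSpecIso_inv, Category.comp_id]

theorem gammaMap_toSpecΓ {U : Scheme.{u}} {R : CommRingCat.{u}} (φ : R ⟶ Γ(U, ⊤)) :
    gammaMap (U.toSpecΓ ≫ Spec.map φ) = φ := by
  rw [gammaMap, Scheme.Hom.comp_appTop, ← Category.assoc, ← Scheme.ΓSpecIso_inv_naturality,
    Category.assoc, Scheme.toSpecΓ_appTop, Iso.inv_hom_id, Category.comp_id]

theorem idempotent_trivial (U : Scheme.{u}) [ConnectedSpace U] (e : Γ(U, ⊤))
    (he : IsIdempotentElem e) : e = 0 ∨ e = 1 := by
  have hsup : ∀ x : U, x ∈ U.basicOpen e ∨ x ∈ U.basicOpen (1 - e) := by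
    intro x
    rw [U.mem_basicOpen e x (show x ∈ (⊤ : U.Opens) from trivial),
      U.mem_basicOpen (1 - e) x (show x ∈ (⊤ : U.Opens) from trivial), map_sub, map_one]
    exact IsLocalRing.isUnit_or_isUnit_one_sub_self _
  have hinf : U.basicOpen e ⊓ U.basicOpen (1 - e) = ⊥ := by
    rw [← U.basicOpen_mul, mul_sub, mul_one, he.eq, sub_self, Scheme.basicOpen_zero]
  have hunit : ∀ a : Γ(U, ⊤), (∀ x : U, x ∈ U.basicOpen a) → IsUnit a := fun a ha =>
    U.toRingedSpace.isUnit_of_isUnit_germ _ a fun x hx => (U.mem_basicOpen a x hx).mp (ha x)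
  have hc : IsClopen (U.basicOpen e : Set U) := by
    refine ⟨⟨?_⟩, (U.basicOpen e).2⟩
    have : (U.basicOpen e : Set U)ᶜ = (U.basicOpen (1 - e) : Set U) := by
      ext x
      refine ⟨fun hx => (hsup x).resolve_left hx, fun hx hx' => ?_⟩
      have hmem : x ∈ U.basicOpen e ⊓ U.basicOpen (1 - e) := ⟨hx', hx⟩
      rw [hinf] at hmem
      exact hmem
    rw [this]
    exact (U.basicOpen (1 - e)).2
  have h0 : e * (1 - e) = 0 := by rw [mul_sub, mul_one, he.eq, sub_self]
  rcases isClopen_iff.mp hc with h | h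
  · left
    have hu : IsUnit (1 - e) := hunit _ fun x => (hsup x).resolve_left (fun hx => by
      have : x ∈ (U.basicOpen e : Set U) := hx
      rw [h] at this; exact this)
    exact hu.mul_left_eq_zero.mp h0
  · right
    have hu : IsUnit e := hunit _ fun x => (Set.ext_iff.mp h x).mpr trivial
    exact (sub_eq_zero.mp (hu.mul_right_eq_zero.mp h0)).symm

theorem discreteTopology_of_etale {k : Type u} [Field k] {Y : Scheme.{u}}
    (gY : Y ⟶ Spec (CommRingCat.of k)) [Etale gY] : DiscreteTopology Y := by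
  refine discreteTopology_iff_isOpen_singleton.mpr fun x => ?_
  obtain ⟨W, hW, hxW, -⟩ := exists_isAffineOpen_mem_and_subset (Opens.mem_top x)
  obtain ⟨ψR, hψR⟩ := Spec.map_surjective (hW.fromSpec ≫ gY)
  haveI : Etale (Spec.map ψR) := by rw [hψR]; infer_instance
  have hψet : ψR.hom.Etale := (HasRingHomProperty.Spec_iff (P := @Etale)).mp inferInstance
  letI : Algebra k Γ(Y, W) := ψR.hom.toAlgebra
  haveI : Algebra.Etale k Γ(Y, W) := hψet
  haveI : Module.Finite k Γ(Y, W) := Algebra.FormallyUnramified.finite_of_free k _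
  haveI : IsArtinianRing Γ(Y, W) := .of_finite k _
  have h1 : DiscreteTopology (Spec Γ(Y, W)) := inferInstanceAs (DiscreteTopology (PrimeSpectrum _))
  haveI := h1
  have h2 : DiscreteTopology W := hW.isoSpec.hom.homeomorph.symm.discreteTopology
  haveI := h2
  have h3 := (isOpen_discrete ({⟨x, hxW⟩} : Set W)).trans W.2
  erw [Set.image_singleton] at h3
  exact h3

set_option maxHeartbeats 800000 in
/-- The universal étale scheme under a connected scheme locally of finite type over a field. -/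
theorem exists_component_etale (k : Type u) [Field k] (U : Scheme.{u}) [ConnectedSpace U]
    (fU : U ⟶ Spec (CommRingCat.of k)) [LocallyOfFiniteType fU] :
    ∃ (P : Scheme.{u}) (g : P ⟶ Spec (CommRingCat.of k)) (q : U ⟶ P), Etale g ∧ q ≫ g = fU ∧
      Flat q ∧ Surjective q ∧ Subsingleton P ∧
      ∀ (Y : Scheme.{u}) (gY : Y ⟶ Spec (CommRingCat.of k)) (h : U ⟶ Y), Etale gY → h ≫ gY = fU →
        ∃ t : P ⟶ Y, t ≫ gY = g ∧ q ≫ t = h := by
  classical
  letI : Algebra k Γ(U, ⊤) := (gammaMap fU).hom.toAlgebra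
  obtain ⟨W, hW, hxW, -⟩ := exists_isAffineOpen_mem_and_subset
    (Opens.mem_top (Classical.arbitrary U))
  haveI : Nonempty W := ⟨⟨_, hxW⟩⟩
  haveI : Nontrivial Γ(U, W) := inferInstance
  let res : Γ(U, ⊤) →+* Γ(U, W) := (U.presheaf.map (homOfLE (le_top : W ≤ ⊤)).op).hom
  letI : Algebra k Γ(U, W) := (res.comp (algebraMap k Γ(U, ⊤))).toAlgebra
  haveI : Algebra.FiniteType k Γ(U, W) := by
    have hft := fU.finiteType_appLE (isAffineOpen_top (Spec (CommRingCat.of k))) hW le_top
    have hiso : Function.Surjective (Scheme.ΓSpecIso (CommRingCat.of k)).inv.hom :=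
      (ConcreteCategory.bijective_of_isIso (Scheme.ΓSpecIso (CommRingCat.of k)).inv).2
    exact hft.comp (RingHom.FiniteType.of_surjective _ hiso)
  obtain ⟨m, hm⟩ := Ideal.exists_maximal (Γ(U, W) : Type u)
  haveI := hm
  letI : Field (Γ(U, W) ⧸ m) := Ideal.Quotient.field m
  haveI : Algebra.FiniteType k (Γ(U, W) ⧸ m) :=
    Algebra.FiniteType.of_surjective (Ideal.Quotient.mkₐ k m) (Ideal.Quotient.mkₐ_surjective k m)
  haveI : Module.Finite k (Γ(U, W) ⧸ m) := finite_of_finite_type_of_isJacobsonRing k _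
  let φ : Γ(U, ⊤) →ₐ[k] Γ(U, W) ⧸ m :=
    (Ideal.Quotient.mkₐ k m).comp { res with commutes' := fun _ => rfl }
  haveI : Nontrivial Γ(U, ⊤) := φ.toRingHom.domain_nontrivial
  obtain ⟨B, hB, hBf, hBu, hmax⟩ := exists_greatest (k := k) (idempotent_trivial U) φ
  haveI := hBf; haveI := hBu
  letI := hB.toField
  haveI : Algebra.FormallyEtale k B := Algebra.FormallyEtale.of_formallyUnramified_of_field k B
  haveI : Algebra.FinitePresentation k B :=
    Algebra.FinitePresentation.of_finiteType.mp inferInstance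
  haveI : Algebra.Etale k B := {}
  let q : U ⟶ Spec (CommRingCat.of B) := U.toSpecΓ ≫ Spec.map (CommRingCat.ofHom B.val.toRingHom)
  let g : Spec (CommRingCat.of B) ⟶ Spec (CommRingCat.of k) :=
    Spec.map (CommRingCat.ofHom (algebraMap k B))
  have hqg : q ≫ g = fU := by
    simp only [q, g, Category.assoc, ← Spec.map_comp]
    conv_rhs => rw [← toSpecΓ_gammaMap fU]
    rfl
  haveI hsub : Subsingleton (Spec (CommRingCat.of B)) :=
    inferInstanceAs (Subsingleton (PrimeSpectrum B))
  haveI : IsDomain (CommRingCat.of B) := hB.isDomain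
  refine ⟨Spec (CommRingCat.of B), g, q, ?_, hqg, inferInstance, ⟨fun p => ?_⟩, hsub, ?_⟩
  · rw [HasRingHomProperty.Spec_iff (P := @Etale)]
    exact RingHom.etale_algebraMap.mpr inferInstance
  · exact ⟨Classical.arbitrary U, Subsingleton.elim _ _⟩
  intro Y gY h hY hh
  haveI : DiscreteTopology Y := discreteTopology_of_etale gY
  have hpt : ∀ x : U, h x = h (Classical.arbitrary U) := fun x =>
    (isPreconnected_range h.continuous).subsingleton ⟨x, rfl⟩ ⟨_, rfl⟩
  obtain ⟨V, hV, hyV, -⟩ := exists_isAffineOpen_mem_and_subset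
    (Opens.mem_top (h (Classical.arbitrary U)))
  have hrange : Set.range h ⊆ Set.range V.ι := by
    rw [V.range_ι]
    rintro _ ⟨x, rfl⟩
    rw [hpt x]; exact hyV
  let h'' : U ⟶ Spec Γ(Y, V) := IsOpenImmersion.lift V.ι h hrange ≫ hV.isoSpec.hom
  have hh'' : h'' ≫ hV.fromSpec = h := by
    simp only [h'', IsAffineOpen.fromSpec, Category.assoc, Iso.hom_inv_id_assoc,
      IsOpenImmersion.lift_fac]
  obtain ⟨ψR, hψR⟩ := Spec.map_surjective (hV.fromSpec ≫ gY)
  haveI : Etale (Spec.map ψR) := by rw [hψR]; infer_instance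
  have hψet : ψR.hom.Etale := (HasRingHomProperty.Spec_iff (P := @Etale)).mp inferInstance
  letI : Algebra k Γ(Y, V) := ψR.hom.toAlgebra
  haveI : Algebra.Etale k Γ(Y, V) := hψet
  haveI : Module.Finite k Γ(Y, V) := Algebra.FormallyUnramified.finite_of_free k _
  have hcomp : ψR ≫ gammaMap h'' = gammaMap fU := by
    rw [← gammaMap_toSpecΓ (ψR ≫ gammaMap h''), Spec.map_comp, ← Category.assoc, toSpecΓ_gammaMap,
      hψR, ← Category.assoc, hh'', hh]
  let ψA : Γ(Y, V) →ₐ[k] Γ(U, ⊤) :=
    { (gammaMap h'').hom with commutes' := fun r => ConcreteCategory.congr_hom hcomp r }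
  let θ : Γ(Y, V) →ₐ[k] B := ψA.codRestrict B fun r => hmax Γ(Y, V) ψA ⟨r, rfl⟩
  refine ⟨Spec.map (CommRingCat.ofHom θ.toRingHom) ≫ hV.fromSpec, ?_, ?_⟩
  · rw [Category.assoc, ← hψR, ← Spec.map_comp]
    exact congrArg Spec.map (CommRingCat.hom_ext (RingHom.ext fun r => θ.commutes r))
  · conv_rhs => rw [← hh'', ← toSpecΓ_gammaMap h'']
    simp only [q, Category.assoc, ← Spec.map_comp_assoc]
    rfl

end Groth.L06.Pi0
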